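import Groth.Agent.Lib.FMod7.ComplPull
import Groth.Prelude.Def_FSch6

/-!
# Pasting of base-change morphisms of squares of ringed sites
-/

set_option autoImplicit false
set_option linter.style.haveILetI false
set_option linter.unusedSectionVars false
set_option backward.isDefEq.respectTransparency false
universe u

open CategoryTheory CategoryTheory.Limits AlgebraicGeometry TopologicalSpace Opposite

noncomputable section

namespace GrothLib.FClosedBC7

open ModSite ModSite.RMor

variable {A : Type u} [SmallCategory A] {JA : GrothendieckTopology A}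
  {B : Type u} [SmallCategory B] {JB : GrothendieckTopology B}
  {C : Type u} [SmallCategory C] {JC : GrothendieckTopology C}
  {D : Type u} [SmallCategory D] {JD : GrothendieckTopology D}
  {OA : Sheaf JA CommRingCat.{u}} {OB : Sheaf JB CommRingCat.{u}}
  {OC : Sheaf JC CommRingCat.{u}} {OD : Sheaf JD CommRingCat.{u}}
  {a : RMor OA OB} {b : RMor OB OD} {c : RMor OA OC} {d : RMor OC OD}
  {e : b.fn ⋙ a.fn ≅ d.fn ⋙ c.fn}

/-- Transposes and `pullSq`. -/
theorem transp_pullSq (h : SharpSq a b c d e) {N : Mod OD} {T : Mod OA}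
    (χ : c.pull.obj (d.pull.obj N) ⟶ T) :
    b.adj.homEquiv _ _ (a.adj.homEquiv _ _ ((pullSq h).inv.app N ≫ χ)) ≫ (pushSq h).hom.app T =
      d.adj.homEquiv _ _ (c.adj.homEquiv _ _ χ) := by
  have h1 : ∀ {T : Mod OA} (χ : c.pull.obj (d.pull.obj N) ⟶ T),
      (b.adj.comp a.adj).homEquiv _ _ ((pullSq h).inv.app N ≫ χ) ≫ (pushSq h).hom.app T =
        (d.adj.comp c.adj).homEquiv _ _ χ := by
    intro T χ
    rw [Adjunction.homEquiv_unit, Adjunction.homEquiv_unit]
    have h2 := unit_conjugateEquiv (b.adj.comp a.adj) (d.adj.comp c.adj) (pullSq h).hom N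
    have e1 : conjugateEquiv (b.adj.comp a.adj) (d.adj.comp c.adj) (pullSq h).hom = (pushSq h).hom := by
      simp [pullSq, conjugateIsoEquiv]
    rw [e1] at h2
    rw [Category.assoc, (pushSq h).hom.naturality, ← Category.assoc]
    rw [h2, Category.assoc, ← Functor.map_comp, ← Category.assoc ((pullSq h).hom.app N),
      Iso.hom_inv_id_app, Category.id_comp]
  have h3 := h1 χ
  rw [Adjunction.comp_homEquiv, Adjunction.comp_homEquiv] at h3
  exact h3

variable {A' : Type u} [SmallCategory A'] {JA' : GrothendieckTopology A'}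
  {B' : Type u} [SmallCategory B'] {JB' : GrothendieckTopology B'}
  {C' : Type u} [SmallCategory C'] {JC' : GrothendieckTopology C'}
  {D' : Type u} [SmallCategory D'] {JD' : GrothendieckTopology D'}
  {OA' : Sheaf JA' CommRingCat.{u}} {OB' : Sheaf JB' CommRingCat.{u}}
  {OC' : Sheaf JC' CommRingCat.{u}} {OD' : Sheaf JD' CommRingCat.{u}}
  {a' : RMor OA' OB'} {b' : RMor OB' OD'} {c' : RMor OA' OC'} {d' : RMor OC' OD'}
  {e' : b'.fn ⋙ a'.fn ≅ d'.fn ⋙ c'.fn}
  {uA : RMor OA' OA} {uB : RMor OB' OB} {uC : RMor OC' OC} {uD : RMor OD' OD}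
  {ea : a.fn ⋙ uA.fn ≅ uB.fn ⋙ a'.fn} {eb : b.fn ⋙ uB.fn ≅ uD.fn ⋙ b'.fn}
  {ec : c.fn ⋙ uA.fn ≅ uC.fn ⋙ c'.fn} {ed : d.fn ⋙ uC.fn ≅ uD.fn ⋙ d'.fn}
  (h : SharpSq a b c d e) (h' : SharpSq a' b' c' d' e')
  (ha : SharpSq uA a a' uB ea) (hb : SharpSq uB b b' uD eb)
  (hc : SharpSq uA c c' uC ec) (hd : SharpSq uC d d' uD ed)

/-- The six squares of a cube commute on direct images (the categories of opens being thin). -/
theorem cube_push [Quiver.IsThin A'] (T : Mod OA') :
    (pushSq h).hom.app (uA.push.obj T) ≫ d.push.map ((pushSq hc).hom.app T) ≫ (pushSq hd).hom.app (c'.push.obj T) =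
      b.push.map ((pushSq ha).hom.app T) ≫ (pushSq hb).hom.app (a'.push.obj T) ≫
        uD.push.map ((pushSq h').hom.app T) := by
  refine SheafOfModules.hom_ext (PresheafOfModules.hom_ext fun U => ModuleCat.hom_ext (LinearMap.ext fun m => ?_))
  show T.val.presheaf.map _ (T.val.presheaf.map _ (T.val.presheaf.map _ m)) =
    T.val.presheaf.map _ (T.val.presheaf.map _ (T.val.presheaf.map _ m))
  simp only [← ConcreteCategory.comp_apply, ← Functor.map_comp]
  exact congrArg (fun φ => T.val.presheaf.map φ m) (Subsingleton.elim _ _)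

/-- **Pasting**: the inverse image along the back-to-front maps of a base-change map. -/
theorem bcMap_paste [Quiver.IsThin A'] (M : Mod OB) :
    uC.pull.map (bcMap h M) ≫ bcMap hc (a.pull.obj M) ≫ c'.push.map ((pullSq ha).inv.app M) =
      (pullSq hd).inv.app (b.push.obj M) ≫ d'.pull.map (bcMap hb M) ≫ bcMap h' (uB.pull.obj M) := by
  apply (uC.adj.homEquiv _ _).injective
  apply (d.adj.homEquiv _ _).injective
  rw [← cancel_mono ((pushSq hd).hom.app _), transp_pullSq hd]
  rw [Adjunction.homEquiv_naturality_left uC.adj, Adjunction.homEquiv_naturality_right d.adj, bcMap_transpose,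
    Adjunction.homEquiv_naturality_right uC.adj, bcMap_transpose]
  rw [Adjunction.homEquiv_naturality_left d'.adj, Adjunction.homEquiv_naturality_right uD.adj,
    bcMap_transpose]
  erw [bcMap_transpose]
  have hu : a.adj.unit.app M ≫ a.push.map (uA.adj.unit.app (a.pull.obj M) ≫ uA.push.map ((pullSq ha).inv.app M)) ≫
      (pushSq ha).hom.app (a'.pull.obj (uB.pull.obj M)) =
      uB.adj.unit.app M ≫ uB.push.map (a'.adj.unit.app (uB.pull.obj M)) := by
    have h3 := transp_pullSq ha (N := M) (T := a'.pull.obj (uB.pull.obj M)) (𝟙 _)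
    simp only [Category.comp_id, Adjunction.homEquiv_unit, CategoryTheory.Functor.map_id, Category.assoc,
      Functor.comp_obj] at h3
    exact h3
  simp only [Functor.map_comp, Category.assoc, Functor.comp_obj]
  have n1 := (pushSq h).hom.naturality (uA.adj.unit.app (a.pull.obj M))
  have n2 := (pushSq h).hom.naturality (uA.push.map ((pullSq ha).inv.app M))
  have n3 := (pushSq hc).hom.naturality ((pullSq ha).inv.app M)
  have n4 := (pushSq hb).hom.naturality (a'.adj.unit.app (uB.pull.obj M))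
  simp only [Functor.comp_map, Functor.comp_obj] at n1 n2 n3 n4
  rw [← Functor.map_comp_assoc d.push ((pushSq hc).hom.app _) (uC.push.map _), ← n3]
  simp only [Functor.map_comp, Category.assoc]
  rw [← reassoc_of% n1, ← reassoc_of% n2, cube_push h h' ha hb hc hd, ← reassoc_of% n4]
  simp only [← Functor.map_comp_assoc, Category.assoc]
  rw [hu]

end GrothLib.FClosedBC7

noncomputable section

namespace GrothLib.FClosedBC7

/-- Inverse images preserve coherence. -/
theorem isCohF_pullF' {𝔛 𝔜 : FSch.Sys.{u}} (f : 𝔛 ⟶ 𝔜) (h : 𝔛.IsFormal) (h' : 𝔜.IsFormal)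
    (M : FSch.ModF 𝔜 h') (hM : FSch.IsCohF 𝔜 h' M) : FSch.IsCohF 𝔛 h ((FSch.pullF f h h').obj M) :=
  FMod7.isFinitePresentation_pull (FSch.homMor f h h') (fun _ _ _ hx => hx) (fun {ι} U hU => by
    refine eq_top_iff.2 fun x _ => Opens.mem_iSup.2 ?_
    have h0 : (f : FSch.Hom 𝔛 𝔜).app 0 x ∈ iSup U := by rw [hU]; trivial
    obtain ⟨i, hi⟩ := Opens.mem_iSup.1 h0
    exact ⟨i, hi⟩) _ hM

theorem isIso_left {C : Type*} [Category C] {a b c d a' b' : C} {x : a ⟶ b} {y : b ⟶ c} {z : c ⟶ d}
    {p : a ⟶ a'} {r : a' ⟶ b'} {s : b' ⟶ d} (e : x ≫ y ≫ z = p ≫ r ≫ s) (hy : IsIso y) (hz : IsIso z)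
    (hp : IsIso p) (hr : IsIso r) (hs : IsIso s) : IsIso x := by
  haveI : IsIso (x ≫ y ≫ z) := e ▸ (inferInstance : IsIso (p ≫ r ≫ s))
  exact IsIso.of_isIso_comp_right x (y ≫ z)

end GrothLib.FClosedBC7
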