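import Groth.Agent.Lib.AffBC.Basic
import Groth.Agent.Lib.FPushQC7.Proper
import Groth.Agent.Lib.FMod7.ComplPull
import Groth.Agent.Lib.FormalExist7.PushTwist
import Groth.Agent.Lib.RpushD7.Classes
import Groth.Prelude.Def_FSch6

/-!
# Direct images of coherent modules along closed immersions of formal systems
-/

set_option autoImplicit false
set_option linter.style.haveILetI false
set_option linter.unusedSectionVars false
set_option backward.isDefEq.respectTransparency false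
universe u

open CategoryTheory CategoryTheory.Limits AlgebraicGeometry TopologicalSpace Opposite

noncomputable section

namespace GrothLib.FClosedBC7

/-- The base-change map of a cartesian square of schemes with affine first side, in the ringed-site spelling. -/
theorem isIso_bcMap_sch {X S X' S' : Scheme.{u}} {f : X ⟶ S} {g : S' ⟶ S} {g' : X' ⟶ X} {f' : X' ⟶ S'}
    (h : IsPullback g' f' f g) [IsAffineHom f] (F : X.Modules) [F.IsQuasicoherent] :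
    IsIso (ModSite.RMor.bcMap (ModSite.RMor.sharpSq_ofScheme g' f f' g h.w) F) := by
  have e : ModSite.RMor.bcMap (ModSite.RMor.sharpSq_ofScheme g' f f' g h.w) F = AffBC.bcMap h F := by
    refine congrArg ((Scheme.Modules.pullbackPushforwardAdjunction g).homEquiv _ _).symm ?_
    exact congrArg ((Scheme.Modules.pushforward f).map ((Scheme.Modules.pullbackPushforwardAdjunction g').unit.app F) ≫ ·)
      (SheafOfModules.hom_ext (PresheafOfModules.hom_ext fun U => ModuleCat.hom_ext (LinearMap.ext fun m => rfl)))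
  rw [e]
  exact AffBC.isIso_bcMap h F

variable {𝔛 𝔖 : FSch.Sys.{u}} (f : 𝔛 ⟶ 𝔖) (h𝔛 : 𝔛.IsLocNoethFormal) (h𝔖 : 𝔖.IsLocNoethFormal)
  (hf : FSch.IsClosedImmHom f)
include h𝔛 h𝔖 hf

theorem isProper_level (n : ℕ) : IsProper ((f : FSch.Hom 𝔛 𝔖).app n) := by
  haveI := hf.2
  exact FPushQC7.isProper_app h𝔛 h𝔖 f n

theorem isAffineHom_level (n : ℕ) : IsAffineHom ((f : FSch.Hom 𝔛 𝔖).app n) := by
  haveI := hf.2
  haveI := isProper_level f h𝔛 h𝔖 hf n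
  haveI := 𝔖.toX_isClosedImmersion h𝔖.1 n
  refine isAffineHom_of_isInducing _ ?_ ((f : FSch.Hom 𝔛 𝔖).app n).isClosedMap.isClosed_range
  have h1 : Topology.IsInducing ((((f : FSch.Hom 𝔛 𝔖).app 0 ≫ 𝔖.toX n).base) ∘ (𝔛.gInv h𝔛.1 n)) :=
    ((f : FSch.Hom 𝔛 𝔖).app 0 ≫ 𝔖.toX n).isClosedEmbedding.isInducing.comp
      (𝔛.levelHomeo h𝔛.1 n).symm.isInducing
  rw [← FSch.Hom.toX_comm f n] at h1
  refine Eq.mp (congrArg Topology.IsInducing (funext fun x => ?_)) h1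
  exact congrArg ((f : FSch.Hom 𝔛 𝔖).app n) ((𝔛.levelHomeo h𝔛.1 n).apply_symm_apply x)

variable (M : FSch.ModF 𝔛 h𝔛.1) [FSch.IsCohF 𝔛 h𝔛.1 M]

/-- The direct images on the levels. -/
def pF (n : ℕ) : (𝔖.X n).Modules :=
  (Scheme.Modules.pushforward ((f : FSch.Hom 𝔛 𝔖).app n)).obj ((FMod7.pullSys h𝔛.1 M).F n)

/-- Their transition maps. -/
def pT (n : ℕ) : pF f h𝔛 M (n + 1) ⟶ (Scheme.Modules.pushforward (𝔖.ι n)).obj (pF f h𝔛 M n) :=
  (Scheme.Modules.pushforward ((f : FSch.Hom 𝔛 𝔖).app (n + 1))).map ((FMod7.pullSys h𝔛.1 M).toPush n) ≫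
    (Scheme.Modules.pushforwardComp (𝔛.ι n) ((f : FSch.Hom 𝔛 𝔖).app (n + 1))).hom.app _ ≫
    (Scheme.Modules.pushforwardCongr ((f : FSch.Hom 𝔛 𝔖).comm n).symm).hom.app _ ≫
    (Scheme.Modules.pushforwardComp ((f : FSch.Hom 𝔛 𝔖).app n) (𝔖.ι n)).inv.app _

theorem isIso_adjunct_pT (n : ℕ) :
    IsIso (((Scheme.Modules.pullbackPushforwardAdjunction (𝔖.ι n)).homEquiv _ _).symm (pT f h𝔛 M n)) := by
  haveI := isAffineHom_level f h𝔛 h𝔖 hf (n + 1)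
  let G := FMod7.pullSys h𝔛.1 M
  haveI : (G.F (n + 1)).IsQuasicoherent := (FMod7.isCoh_pullSys (F := M) (n + 1)).1
  have h := hf.1 n
  haveI := AffBC.isIso_bcMap h (G.F (n + 1))
  have e : pT f h𝔛 M n = AffBC.bcV h (G.F (n + 1)) ≫
      (Scheme.Modules.pushforward (𝔖.ι n)).map ((Scheme.Modules.pushforward ((f : FSch.Hom 𝔛 𝔖).app n)).map (G.e n).hom) := by
    let sw := (Scheme.Modules.pushforwardComp (𝔛.ι n) ((f : FSch.Hom 𝔛 𝔖).app (n + 1))).hom ≫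
      (Scheme.Modules.pushforwardCongr ((f : FSch.Hom 𝔛 𝔖).comm n).symm).hom ≫
      (Scheme.Modules.pushforwardComp ((f : FSch.Hom 𝔛 𝔖).app n) (𝔖.ι n)).inv
    have nat := sw.naturality (G.e n).hom
    show (Scheme.Modules.pushforward ((f : FSch.Hom 𝔛 𝔖).app (n + 1))).map
        (((Scheme.Modules.pullbackPushforwardAdjunction (𝔛.ι n)).homEquiv _ _) (G.e n).hom) ≫ sw.app (G.F n) = _
    rw [Adjunction.homEquiv_unit, Functor.map_comp, Category.assoc]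
    exact (congrArg (_ ≫ ·) nat).trans (Category.assoc _ _ _).symm
  rw [e, Adjunction.homEquiv_naturality_right_symm]
  show IsIso (AffBC.bcMap h (G.F (n + 1)) ≫ _)
  infer_instance

/-- The system of the direct images. -/
def pSys : FSch.ModSys 𝔖 where
  F := pF f h𝔛 M
  e n := @asIso _ _ _ _ _ (isIso_adjunct_pT f h𝔛 h𝔖 hf M n)

theorem pSys_toPush (n : ℕ) : (pSys f h𝔛 h𝔖 hf M).toPush n = pT f h𝔛 M n :=
  Equiv.apply_symm_apply _ _

theorem isCoh_pSys : (pSys f h𝔛 h𝔖 hf M).IsCoh := fun n => by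
  haveI := isProper_level f h𝔛 h𝔖 hf n
  haveI := h𝔖.2.2 n
  haveI := h𝔛.2.2 n
  exact FormalExist7.isCoh_pushforward _ (FMod7.isCoh_pullSys (F := M) n)

omit hf in
theorem lvPush_compare (k : ℕ) (G : (𝔛.X k).Modules) :
    (FSch.pushF f h𝔛.1 h𝔖.1).map ((FSch.pushCompare 𝔛 h𝔛.1 k).app G) ≫
      (FSch.lvPushSq f h𝔛.1 h𝔖.1 k).hom.app G =
    (FSch.lvPushSq f h𝔛.1 h𝔖.1 (k + 1)).hom.app ((Scheme.Modules.pushforward (𝔛.ι k)).obj G) ≫
      (FSch.levelMor 𝔖 h𝔖.1 (k + 1)).push.map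
        ((Scheme.Modules.pushforwardComp (𝔛.ι k) ((f : FSch.Hom 𝔛 𝔖).app (k + 1))).hom.app G ≫
          (Scheme.Modules.pushforwardCongr ((f : FSch.Hom 𝔛 𝔖).comm k).symm).hom.app G ≫
          (Scheme.Modules.pushforwardComp ((f : FSch.Hom 𝔛 𝔖).app k) (𝔖.ι k)).inv.app G) ≫
      (FSch.pushCompare 𝔖 h𝔖.1 k).app _ := by
  refine SheafOfModules.hom_ext (PresheafOfModules.hom_ext fun U => ModuleCat.hom_ext (LinearMap.ext fun m => ?_))
  show G.presheaf.map _ (G.presheaf.map _ m) = G.presheaf.map _ (G.presheaf.map _ (G.presheaf.map _ m))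
  simp only [← ConcreteCategory.comp_apply, ← Functor.map_comp]
  exact congrArg (fun φ => G.presheaf.map φ m) (Subsingleton.elim _ _)

/-- The direct image of the system is the system of the direct images. -/
def natIso : FSch.levelSysOf 𝔛 h𝔛.1 (FMod7.pullSys h𝔛.1 M).F (FMod7.pullSys h𝔛.1 M).toPush ⋙
      FSch.pushF f h𝔛.1 h𝔖.1 ≅
    FSch.levelSysOf 𝔖 h𝔖.1 (pSys f h𝔛 h𝔖 hf M).F (pSys f h𝔛 h𝔖 hf M).toPush :=
  let G := FMod7.pullSys h𝔛.1 M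
  let α : FSch.levelSysOf 𝔛 h𝔛.1 G.F G.toPush ⋙ FSch.pushF f h𝔛.1 h𝔖.1 ⟶
      FSch.levelSysOf 𝔖 h𝔖.1 (pSys f h𝔛 h𝔖 hf M).F (pSys f h𝔛 h𝔖 hf M).toPush :=
    NatTrans.ofOpSequence (fun k => (FSch.lvPushSq f h𝔛.1 h𝔖.1 k).hom.app (G.F k)) fun k => by
      rw [Functor.comp_map, FSch.levelSysOf_map_succ, FSch.levelSysOf_map_succ, pSys_toPush]
      rw [Functor.map_comp]
      refine (Category.assoc _ _ _).trans ((congrArg (_ ≫ ·) (lvPush_compare f h𝔛 h𝔖 k (G.F k))).trans ?_)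
      rw [← Category.assoc]
      refine (congrArg (· ≫ _) ((FSch.lvPushSq f h𝔛.1 h𝔖.1 (k + 1)).hom.naturality (G.toPush k))).trans ?_
      simp only [Category.assoc, pT, Functor.map_comp, Functor.comp_map]
      rfl
  haveI : ∀ k, IsIso (α.app k) := fun k => by
    rw [show α.app k = (FSch.lvPushSq f h𝔛.1 h𝔖.1 k.unop).hom.app (G.F k.unop) from rfl]
    infer_instance
  haveI := NatIso.isIso_of_isIso_app α
  asIso α

/-- The direct image of a coherent module. -/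
def pushReal : (FSch.pushF f h𝔛.1 h𝔖.1).obj M ≅ (pSys f h𝔛 h𝔖 hf M).realMod h𝔖.1 :=
  haveI := FMod7.isIso_toReal (F := M) h𝔛
  haveI : PreservesLimitsOfSize.{0, 0} (FSch.pushF f h𝔛.1 h𝔖.1) :=
    (FSch.homMor f h𝔛.1 h𝔖.1).adj.rightAdjoint_preservesLimits
  (FSch.pushF f h𝔛.1 h𝔖.1).mapIso (asIso (FMod7.toReal h𝔛.1 M)) ≪≫
    preservesLimitIso (FSch.pushF f h𝔛.1 h𝔖.1) _ ≪≫ lim.mapIso (natIso f h𝔛 h𝔖 hf M)

theorem pushReal_proj (k : ℕ) :
    (pushReal f h𝔛 h𝔖 hf M).hom ≫ FSch.realProj 𝔖 h𝔖.1 _ _ k =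
      (FSch.pushF f h𝔛.1 h𝔖.1).map ((FSch.levelMor 𝔛 h𝔛.1 k).adj.unit.app M) ≫
        (FSch.lvPushSq f h𝔛.1 h𝔖.1 k).hom.app ((FMod7.pullSys h𝔛.1 M).F k) := by
  haveI : PreservesLimitsOfSize.{0, 0} (FSch.pushF f h𝔛.1 h𝔖.1) :=
    (FSch.homMor f h𝔛.1 h𝔖.1).adj.rightAdjoint_preservesLimits
  show (_ ≫ _ ≫ lim.map _) ≫ limit.π _ (op k) = _
  rw [Category.assoc, Category.assoc]
  refine (congrArg (_ ≫ _ ≫ ·) (limMap_π _ _)).trans ?_
  refine (congrArg (_ ≫ ·) ((Category.assoc _ _ _).symm.trans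
    (congrArg (· ≫ _) (preservesLimitIso_hom_π _ _ _)))).trans ?_
  refine (Category.assoc _ _ _).symm.trans ?_
  refine (congrArg (· ≫ _) ((Functor.map_comp _ _ _).symm.trans
    (congrArg (FSch.pushF f h𝔛.1 h𝔖.1).map (FMod7.toReal_realProj h𝔛.1 M k)))).trans ?_
  rfl

theorem isCohF_push : FSch.IsCohF 𝔖 h𝔖.1 ((FSch.pushF f h𝔛.1 h𝔖.1).obj M) := by
  haveI := FMod7.isCohF_realMod (h := h𝔖.1) h𝔖 (isCoh_pSys f h𝔛 h𝔖 hf M)
  exact RpushD7.isCohF_of_iso' h𝔖 (pushReal f h𝔛 h𝔖 hf M).symm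

theorem isIso_lvBcMap (k : ℕ) : IsIso (FSch.lvBcMap f h𝔛.1 h𝔖.1 k M) := by
  haveI := FMod7.isIso_adjoint_realProj (h := h𝔖.1) h𝔖 (isCoh_pSys f h𝔛 h𝔖 hf M) k
  have e : FSch.lvBcMap f h𝔛.1 h𝔖.1 k M = (FSch.levelMor 𝔖 h𝔖.1 k).pull.map (pushReal f h𝔛 h𝔖 hf M).hom ≫
      ((FSch.levelMor 𝔖 h𝔖.1 k).adj.homEquiv _ _).symm (FSch.realProj 𝔖 h𝔖.1 _ _ k) := by
    rw [← Adjunction.homEquiv_naturality_left_symm, pushReal_proj]
    rfl
  rw [e]
  exact IsIso.comp_isIso' inferInstance ‹_›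

end GrothLib.FClosedBC7
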